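import Groth.Agent.Lib.PerfBlow28.Chart

/-!
# The presentation of a chart of the blow-up in a Koszul regular sequence, recognised by its properties
-/

set_option autoImplicit false
universe u

open MvPolynomial

namespace GrothLib.BlowPB8

open GrothLib.BlowUp17 GrothLib.BlowUpBC12 GrothLib.PerfBlow28

variable {A W : Type u} [CommRing A] [CommRing W] {m : ℕ} (a : Fin (m + 1) → A) (i : Fin (m + 1))

/-- Any polynomial becomes, after multiplication by a power of `a i`, a constant modulo the equations. -/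
theorem exists_const_mod (P : MvPolynomial (Var i) A) :
    ∃ (N : ℕ) (x : A), P * C (a i) ^ N - C x ∈ rels a i := by
  induction P using MvPolynomial.induction_on with
  | C r => exact ⟨0, r, by simp⟩
  | add p q hp hq =>
    obtain ⟨N, x, h⟩ := hp
    obtain ⟨M, y, h'⟩ := hq
    refine ⟨N + M, x * a i ^ M + y * a i ^ N, ?_⟩
    have e : (p + q) * C (a i) ^ (N + M) - C (x * a i ^ M + y * a i ^ N) =
        (p * C (a i) ^ N - C x) * C (a i) ^ M + (q * C (a i) ^ M - C y) * C (a i) ^ N := by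
      simp only [map_add, map_mul, map_pow]; ring
    rw [e]
    exact add_mem (Ideal.mul_mem_right _ _ h) (Ideal.mul_mem_right _ _ h')
  | mul_X p k hp =>
    obtain ⟨N, x, h⟩ := hp
    refine ⟨N + 1, x * a k.1, ?_⟩
    have hk : C (a k.1) - C (a i) * X k ∈ rels a i := by
      refine Ideal.subset_span ⟨k.1, k.2, ?_⟩
      rw [eqs, if_neg k.2, xv, dif_neg k.2]
    have e : p * X k * C (a i) ^ (N + 1) - C (x * a k.1) =
        (p * C (a i) ^ N - C x) * (C (a i) * X k) - C x * (C (a k.1) - C (a i) * X k) := by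
      simp only [map_mul]; ring
    rw [e]
    exact sub_mem (Ideal.mul_mem_right _ _ h) (Ideal.mul_mem_left _ _ hk)

variable (ha : LCI.IsKoszulRegularSeq A (List.ofFn a)) (ψ : MvPolynomial (Var i) A →+* W)
  (hX : ∀ k, ψ (C (a i)) * ψ (xv i k) = ψ (C (a k)))
  (hnz : ψ (C (a i)) ∈ nonZeroDivisors W)

include hX in
theorem rels_le_ker : rels a i ≤ RingHom.ker ψ := by
  refine Ideal.span_le.2 ?_
  rintro _ ⟨k, hk, rfl⟩
  show ψ (eqs a i k) = 0
  rw [eqs, if_neg hk, map_sub, map_mul, hX, sub_self]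

include hX in
theorem exists_eq_mul_pow : ∀ (n : ℕ) (x : A), x ∈ ctr a ^ n → ∃ Q, ψ (C x) = ψ Q * ψ (C (a i)) ^ n := by
  intro n
  induction n with
  | zero => exact fun x _ => ⟨C x, by simp⟩
  | succ n ih =>
    intro x hx
    rw [pow_succ] at hx
    refine Submodule.mul_induction_on hx (fun y hy s hs => ?_) fun y z hy hz => ?_
    · obtain ⟨Q, hQ⟩ := ih y hy
      obtain ⟨c, rfl⟩ := Ideal.mem_span_range_iff_exists_fun.1 hs
      refine ⟨Q * ∑ k, C (c k) * xv i k, ?_⟩
      rw [map_mul C, map_mul ψ, hQ, map_sum C, map_sum ψ, map_mul ψ, map_sum ψ, pow_succ]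
      rw [Finset.mul_sum, Finset.mul_sum, Finset.sum_mul]
      refine Finset.sum_congr rfl fun k _ => ?_
      rw [map_mul, map_mul, map_mul ψ (C (c k)), ← hX k]
      ring
    · obtain ⟨Q, hQ⟩ := hy
      obtain ⟨R, hR⟩ := hz
      exact ⟨Q + R, by rw [map_add C, map_add ψ, map_add ψ, add_mul, hQ, hR]⟩

include ha hX hnz in
/-- A map with the properties of the map to a chart is surjective with kernel the equations of the chart. -/
theorem surjective_and_ker (hnum : ∀ z, ∃ (n : ℕ) (x : A), x ∈ ctr a ^ n ∧ ψ (C x) = z * ψ (C (a i)) ^ n)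
    (hker : ∀ x, ψ (C x) = 0 → ∃ M : ℕ, a i ^ M * x = 0) :
    Function.Surjective ψ ∧ RingHom.ker ψ = rels a i := by
  refine ⟨fun z => ?_, le_antisymm (fun P hP => ?_) (rels_le_ker a i ψ hX)⟩
  · obtain ⟨n, x, hx, hz⟩ := hnum z
    obtain ⟨Q, hQ⟩ := exists_eq_mul_pow a i ψ hX n x hx
    exact ⟨Q, (mul_cancel_right_mem_nonZeroDivisors (pow_mem hnz n)).1 (hQ.symm.trans hz)⟩
  · obtain ⟨N, x, h⟩ := exists_const_mod a i P
    have hx : ψ (C x) = 0 := by
      have := rels_le_ker a i ψ hX h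
      rwa [RingHom.mem_ker, map_sub, map_mul, RingHom.mem_ker.1 hP, zero_mul, zero_sub, neg_eq_zero] at this
    obtain ⟨M, hM⟩ := hker x hx
    have key : ∀ (k : ℕ) (Q : MvPolynomial (Var i) A), C (a i) ^ k * Q ∈ rels a i → Q ∈ rels a i := by
      intro k
      induction k with
      | zero => intro Q hQ; rwa [pow_zero, one_mul] at hQ
      | succ k ih =>
        intro Q hQ
        refine mem_rels_of_C_mul_mem a i ha Q (ih _ ?_)
        rwa [← mul_assoc, ← pow_succ]
    refine key (M + N) P ?_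
    have e : C (a i) ^ (M + N) * P = C (a i) ^ M * (P * C (a i) ^ N - C x) + C (a i ^ M * x) := by
      simp only [map_mul, map_pow]; ring
    rw [e, hM, map_zero, add_zero]
    exact Ideal.mul_mem_left _ _ h

/-- The equations of the chart as a list. -/
theorem ofList_eqs : Ideal.ofList (List.ofFn fun k : Fin m => eqs a i (num i k).1) = rels a i := by
  rw [rels, Ideal.ofList]
  congr 1
  ext q
  rw [Set.mem_setOf_eq, List.mem_ofFn]
  exact ⟨fun ⟨k, hk⟩ => ⟨_, (num i k).2, hk.symm⟩, fun ⟨k, hk, hq⟩ =>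
    ⟨(num i).symm ⟨k, hk⟩, by rw [hq, Equiv.apply_symm_apply]⟩⟩

end GrothLib.BlowPB8
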