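import Groth.Agent.Lib.BlowPB8.Piece
import Groth.Agent.Lib.BlowPB8.Alg
import Groth.Agent.Lib.VA.VeryAmple
import Groth.Agent.Lib.Nagata6.Charts
import Groth.Agent.Lib.IdealModSec.Basic
import Groth.Agent.Lib.BlowUp.Universal
import Groth.Agent.Lib.ChowQP8.Main
import Groth.Prelude.Def_LCI2
import Groth.Prelude.Def_ClSub2

/-!
# A blow-up inside a projective bundle, on the pieces of the bundle
-/

set_option autoImplicit false
set_option backward.isDefEq.respectTransparency false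
universe u

open CategoryTheory CategoryTheory.Limits AlgebraicGeometry TopologicalSpace Opposite
open GrothLib.InvExt (mres fres IsGen)
open GrothLib.IdealModSec

noncomputable section

namespace GrothLib.BlowPB8

open GrothLib.VA GrothLib.BlowUp17

variable {X X' : Scheme.{u}} {J : X.IdealSheafData} {f : X' ⟶ X}

theorem fres_appLE {U : X.Opens} {V W : X'.Opens} (h : V ≤ f ⁻¹ᵁ U) (hW : W ≤ V) (r : Γ(X, U)) :
    fres X' hW ((f.appLE U V h).hom r) = (f.appLE U W (hW.trans h)).hom r := by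
  exact congr($(f.appLE_map h (homOfLE hW).op) r)

/-- The open set where a function of the centre generates the exceptional ideal is a chart. -/
theorem genOpen_chart (hf : BlowUp.IsBlowUp f J) (U : X.affineOpens)
    (t : Γ(ClSub.idealMod (J.comap f), f ⁻¹ᵁ U.1)) (x : J.ideal U)
    (ht : val (J.comap f) (f ⁻¹ᵁ U.1) t = f.app U.1 (x : Γ(X, U.1))) :
    IsAffineOpen (genOpen (ClSub.idealMod (J.comap f)) t) ∧
      ∀ h : genOpen (ClSub.idealMod (J.comap f)) t ≤ f ⁻¹ᵁ U.1,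
        (f.appLE U.1 _ h).hom (x : Γ(X, U.1)) ∈ nonZeroDivisors Γ(X', genOpen (ClSub.idealMod (J.comap f)) t) ∧
        (∀ k, ∃ (n : ℕ) (y : Γ(X, U.1)), y ∈ J.ideal U ^ n ∧
          (f.appLE U.1 _ h).hom y = k * (f.appLE U.1 _ h).hom (x : Γ(X, U.1)) ^ n) ∧
        f ⁻¹ᵁ X.basicOpen (x : Γ(X, U.1)) ≤ genOpen (ClSub.idealMod (J.comap f)) t := by
  obtain ⟨V, hVU, hgen, hnum, hcov, hbas⟩ := Nagata6.exists_charts hf U
  let E := J.comap f
  let L := ClSub.idealMod E
  have hmem : ∀ g y : J.ideal U, f.appLE U.1 (V g).1 (hVU g) (y : Γ(X, U.1)) ∈ E.ideal (V g) := fun g y => by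
    rw [BlowUp.ideal_comap_eq_map J f U (V g) (hVU g)]
    exact Ideal.mem_map_of_mem _ y.2
  have heg : ∀ g, ∃ e : Γ(L, (V g).1), IsGen L (V g).1 e ∧
      val E (V g).1 e = f.appLE U.1 (V g).1 (hVU g) (g : Γ(X, U.1)) := fun g => by
    obtain ⟨hnz, hspan⟩ := hgen g
    obtain ⟨e, he⟩ := exists_val_eq E (V g) (hmem g g)
    exact ⟨e, isGen_of_cartierOn (he ▸ hnz) (he ▸ hspan), he⟩
  choose e he hev using heg
  have hrest : ∀ g, val E (V g).1 (mres L (hVU g) t) = f.appLE U.1 (V g).1 (hVU g) (x : Γ(X, U.1)) := fun g => by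
    rw [val_mres, ht]
    rfl
  have hW : genOpen L t = (V x).1 := by
    refine le_antisymm (fun p hp => ?_) fun p hp => mem_genOpen.mpr ⟨_, hVU x, hp, ?_⟩
    · obtain ⟨g, hg⟩ := hcov p (genOpen_le t hp)
      obtain ⟨φ, hφ⟩ := Ideal.mem_span_singleton'.mp ((hgen g).2.le (hmem g x))
      have h1 : mres L (hVU g) t = φ • e g := by
        refine val_injective E _ ?_
        rw [hrest, val_smul, hev, ← hφ]
      exact hbas x g φ hφ.symm ((genAt_iff_mem_basicOpen (hVU g) (he g) h1 hg).mp (mem_genOpen.mp hp))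
    · rw [show mres L (hVU x) t = e x from val_injective E _ ((hrest x).trans (hev x).symm)]
      exact he x
  suffices H : ∀ W : X'.Opens, W = (V x).1 → IsAffineOpen W ∧ ∀ h : W ≤ f ⁻¹ᵁ U.1,
        (f.appLE U.1 W h).hom (x : Γ(X, U.1)) ∈ nonZeroDivisors Γ(X', W) ∧
        (∀ k, ∃ (n : ℕ) (y : Γ(X, U.1)), y ∈ J.ideal U ^ n ∧
          (f.appLE U.1 W h).hom y = k * (f.appLE U.1 W h).hom (x : Γ(X, U.1)) ^ n) ∧
        f ⁻¹ᵁ X.basicOpen (x : Γ(X, U.1)) ≤ W from H _ hW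
  rintro _ rfl
  refine ⟨(V x).2, fun h => ⟨(hgen x).1, hnum x, fun p hp => ?_⟩⟩
  have hpU : f p ∈ U.1 := X.basicOpen_le _ hp
  obtain ⟨g, hg⟩ := hcov p hpU
  obtain ⟨φ, hφ⟩ := Ideal.mem_span_singleton'.mp ((hgen g).2.le (hmem g x))
  refine hbas x g φ hφ.symm ?_
  have h2 : p ∈ X'.basicOpen (f.appLE U.1 (V g).1 (hVU g) (x : Γ(X, U.1))) := by
    rw [Scheme.basicOpen_appLE]
    exact ⟨hg, hp⟩
  rw [← hφ, Scheme.basicOpen_mul] at h2
  exact h2.1

/-- A function vanishing on a chart is killed by a power of the equation of the chart. -/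
theorem exists_pow_mul_eq_zero (hf : BlowUp.IsBlowUp f J) (U : X.affineOpens) (x : J.ideal U) (y : Γ(X, U.1))
    {W : X'.Opens} (hle : W ≤ f ⁻¹ᵁ U.1) (hW : f ⁻¹ᵁ X.basicOpen (x : Γ(X, U.1)) ≤ W)
    (hy : (f.appLE U.1 W hle).hom y = 0) : ∃ M : ℕ, (x : Γ(X, U.1)) ^ M * y = 0 := by
  let D := X.basicOpen (x : Γ(X, U.1))
  have hdisj : Disjoint (J.support : Set X) (D : Set X) := by
    refine Set.disjoint_left.mpr fun p hp hpD => ?_
    have h1 := (Scheme.IdealSheafData.mem_support_iff_of_mem (U := U) (X.basicOpen_le _ hpD)).1 hp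
    rw [Scheme.mem_zeroLocus_iff] at h1
    exact h1 _ x.2 hpD
  haveI := ChowQP8.isIso_restrict_of_admissible hf D hdisj
  have : IsIso (f.app D) := by
    have h2 : IsIso ((f ∣_ D).app (⊤ : (D : Scheme.{u}).Opens)) := inferInstance
    rw [morphismRestrict_app] at h2
    have h3 : IsIso (f.app (D.ι ''ᵁ ⊤)) := (isIso_comp_right_iff _ _).1 h2
    rwa [show D.ι ''ᵁ ⊤ = D from D.ι_image_top] at h3
  have h4 : X.presheaf.map (homOfLE (X.basicOpen_le (x : Γ(X, U.1)))).op y = 0 := by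
    refine (ConcreteCategory.bijective_of_isIso (f.app D)).1 ?_
    rw [map_zero]
    have h5 := congrArg (fres X' hW) hy
    rw [fres_appLE, show fres X' hW (0 : Γ(X', W)) = 0 from map_zero _] at h5
    refine Eq.trans ?_ h5
    rw [← CommRingCat.comp_apply, Scheme.Hom.naturality]
    rfl
  haveI := U.2.isLocalization_basicOpen (x : Γ(X, U.1))
  obtain ⟨⟨_, M, rfl⟩, hM⟩ := (IsLocalization.map_eq_zero_iff (Submonoid.powers (x : Γ(X, U.1))) Γ(X, D) y).1 h4
  exact ⟨M, hM⟩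

variable (B : Bdl X) {m : ℕ}

/-- On a piece the morphism is a closed immersion cut out by the equations of the chart. -/
theorem exists_equations (hf : BlowUp.IsBlowUp f J) {j : X' ⟶ B.P}
    (u : B.E ⟶ Coh.structureModule X) (φ : B.E ⟶ (Scheme.Modules.pushforward f).obj (ClSub.idealMod (J.comap f)))
    {θ : B.O ⟶ (Scheme.Modules.pushforward j).obj (ClSub.idealMod (J.comap f))}
    (hl : B.IsLift f φ j θ)
    (hφ : ∀ (U : X.Opens) (e : Γ(B.E, U)),
      val (J.comap f) (f ⁻¹ᵁ U) (φ.app U e) = f.app U (show Γ(X, U) from u.app U e))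
    (U : X.AffineZariskiSite) (b : Module.Basis (Fin (m + 1)) Γ(X, U.1) Γ(B.E, U.1))
    (a : Fin (m + 1) → Γ(X, U.1)) (hab : ∀ k, a k = (show Γ(X, U.1) from u.app U.1 (b k)))
    (ha : LCI.IsKoszulRegularSeq Γ(X, U.1) (List.ofFn a))
    (hJ : J.ideal ⟨U.1, U.2⟩ = ctr a) (i : Fin (m + 1)) :
    IsAffineOpen (B.piece U (b i)) ∧ IsClosedImmersion (j ∣_ B.piece U (b i)) ∧
      ∃ rs : List Γ(B.P, B.piece U (b i)), rs.length = m ∧
        LCI.IsKoszulRegularSeq Γ(B.P, B.piece U (b i)) rs ∧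
        RingHom.ker (j.app (B.piece U (b i))).hom = Ideal.ofList rs := by
  classical
  let D := B.piece U (b i)
  let L := ClSub.idealMod (J.comap f)
  have hD : IsAffineOpen D := isAffineOpen_piece B U (b i)
  let x : J.ideal ⟨U.1, U.2⟩ := ⟨a i, hJ ▸ Ideal.subset_span ⟨i, rfl⟩⟩
  obtain ⟨hWaff, hWp⟩ := genOpen_chart hf ⟨U.1, U.2⟩ (φ.app U.1 (b i)) x
    ((hφ U.1 (b i)).trans (congrArg _ (hab i).symm))
  rw [show genOpen (ClSub.idealMod (J.comap f)) (φ.app U.1 (b i)) = j ⁻¹ᵁ D from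
    (hl.preimage_piece U (b i)).symm] at hWaff hWp
  obtain ⟨hnz, hnum, hWge⟩ := hWp (Bdl.le_comp hl.comp U (b i))
  obtain ⟨κ, hκ, hκC, hκX⟩ := exists_coords B U b i
  let ψ : MvPolynomial (Var i) Γ(X, U.1) →+* Γ(X', j ⁻¹ᵁ D) := (j.app D).hom.comp κ
  have hψC : ∀ r, ψ (MvPolynomial.C r) = (f.appLE U.1 (j ⁻¹ᵁ D) (Bdl.le_comp hl.comp U (b i))).hom r := fun r => by
    show j.app D (κ (MvPolynomial.C r)) = _
    rw [hκC, app_fres]
    obtain rfl := hl.comp
    rfl
  have hX : ∀ k, ψ (MvPolynomial.C (a i)) * ψ (BlowUpBC12.xv i k) = ψ (MvPolynomial.C (a k)) := by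
    intro k
    rw [hψC, hψC]
    have h1 : B.up θ (B.img U (b i) (b k)) =
        j.app D (κ (BlowUpBC12.xv i k)) • B.up θ (B.img U (b i) (b i)) := by
      rw [hκX k]; exact Ample.app_smul θ _ _
    rw [hl.app_img, hl.app_img] at h1
    have h2 := congrArg (val (J.comap f) (j ⁻¹ᵁ D)) h1
    rw [val_smul, val_mres, val_mres] at h2
    have hv : ∀ k, fres X' (Bdl.le_comp hl.comp U (b i))
        (val (J.comap f) (f ⁻¹ᵁ U.1) (φ.app U.1 (b k))) =
        (f.appLE U.1 (j ⁻¹ᵁ D) (Bdl.le_comp hl.comp U (b i))).hom (a k) := fun k => by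
      rw [hφ, hab k]
      rfl
    rw [hv, hv] at h2
    rw [h2, mul_comm]
    rfl
  obtain ⟨hsurj, hkerψ⟩ := surjective_and_ker a i ha ψ hX (by rw [hψC]; exact hnz)
    (fun z => by
      obtain ⟨n, y, hy, he⟩ := hnum z
      rw [hJ] at hy
      exact ⟨n, y, hy, by rw [hψC, hψC]; exact he⟩)
    (fun y hy => by
      rw [hψC] at hy
      exact exists_pow_mul_eq_zero hf ⟨U.1, U.2⟩ x y (Bdl.le_comp hl.comp U (b i)) hWge hy)
  have hjs : Function.Surjective (j.app D).hom := Function.Surjective.of_comp hsurj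
  refine ⟨hD, ?_, (List.ofFn fun k : Fin m => κ (BlowUpBC12.eqs a i (PerfBlow28.num i k).1)), by simp,
    ?_, ?_⟩
  · haveI : IsAffine (D : Scheme.{u}) := hD
    haveI : IsAffine ((j ⁻¹ᵁ D : X'.Opens) : Scheme.{u}) := hWaff
    refine IsClosedImmersion.of_surjective_of_isAffine _ ?_
    have h6 : Function.Surjective (j.app (D.ι ''ᵁ ⊤)) := by rwa [D.ι_image_top]
    rw [Scheme.Hom.appTop, morphismRestrict_app]
    exact (ConcreteCategory.bijective_of_isIso (X'.presheaf.map _)).2.comp h6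
  · let e := RingEquiv.ofBijective κ hκ
    have := KoszulColon.isKoszulRegularSeq_map (κ : MvPolynomial (Var i) Γ(X, U.1) →+* Γ(B.P, D))
      (RingHom.Flat.of_bijective hκ) _ (PerfBlow28.isKoszulRegularSeq_chart a i ha)
    rwa [List.map_ofFn] at this
  · have h7 : RingHom.ker (j.app D).hom = (RingHom.ker ψ).map κ := by
      rw [show RingHom.ker ψ = (RingHom.ker (j.app D).hom).comap κ from (RingHom.comap_ker _ κ).symm,
        Ideal.map_comap_of_surjective _ hκ.2]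
    rw [h7, hkerψ, ← ofList_eqs, Ideal.map_ofList, List.map_ofFn]
    rfl

end GrothLib.BlowPB8
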