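import Groth.Agent.Lib.PBDeg17.OfBdl
import Groth.Agent.Lib.BlowUp17.RegularAlg
import Groth.Agent.Lib.BlowUpBC12.Algebra

/-!
# The ring of a piece of a projective bundle over a trivialising affine open
-/

set_option autoImplicit false
set_option backward.isDefEq.respectTransparency false
universe u

open CategoryTheory AlgebraicGeometry TopologicalSpace Opposite HomogeneousLocalization
open GrothLib.InvExt (mres fres IsGen)
open GrothLib.RelProjK (dg em)

noncomputable section

namespace GrothLib.BlowPB8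

open GrothLib.VA GrothLib.BlowUp17

variable {X : Scheme.{u}} (B : Bdl X) {m : ℕ}

theorem isAffineOpen_piece (U : X.AffineZariskiSite) (e : Γ(B.E, U.1)) : IsAffineOpen (B.piece U e) :=
  (Proj.isAffineOpen_basicOpen (dg B.S U) (ev B.j U e) (B.isSym.2 U.1 U.2 e) one_pos).image_of_isOpenImmersion
    (em B.p B.chart U)

theorem exists_mem_piece (U : X.AffineZariskiSite) {ι : Type} [Fintype ι]
    (b : Module.Basis ι Γ(X, U.1) Γ(B.E, U.1)) {z : B.P} (hz : B.p z ∈ U.1) :
    ∃ i, z ∈ B.piece U (b i) := by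
  obtain ⟨w, rfl⟩ := (RelProjK.mem_opensRange_em (chart := B.chart) U).mpr hz
  obtain ⟨e', he'⟩ := exists_notMem_ev B.isQCoh B.isSym U w
  obtain ⟨i, hi⟩ : ∃ i, ev B.j U (b i) ∉ w.asHomogeneousIdeal := by
    by_contra! h
    refine he' ?_
    rw [← b.sum_repr e', show ev B.j U (∑ j, b.repr e' j • b j) = ∑ j, ev B.j U (b.repr e' j • b j) from
      map_sum (B.j.app U.1).hom _ _]
    refine Ideal.sum_mem _ fun j _ => ?_
    rw [show ev B.j U (b.repr e' j • b j) = (B.S.str.app (op U.1)).hom (b.repr e' j) * ev B.j U (b j) from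
      Scheme.Modules.Hom.app_smul B.j _ _]
    exact Ideal.mul_mem_left _ _ (h j)
  exact ⟨i, mem_pc.mpr hi⟩

/-- The functions on a piece are the polynomials in the ratios. -/
theorem exists_coords (U : X.AffineZariskiSite) (b : Module.Basis (Fin (m + 1)) Γ(X, U.1) Γ(B.E, U.1))
    (i : Fin (m + 1)) :
    ∃ κ : MvPolynomial (Var i) Γ(X, U.1) →+* Γ(B.P, B.piece U (b i)), Function.Bijective κ ∧
      (∀ r, κ (MvPolynomial.C r) = fres B.P (pc_le U (b i)) (B.p.app U.1 r)) ∧
      ∀ k, B.img U (b i) (b k) = κ (BlowUpBC12.xv i k) • B.img U (b i) (b i) := by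
  classical
  obtain ⟨g, hg0, hg1⟩ := PBDeg.exists_ringEquiv_away B U b i
  let s : Fin (m + 1) → Γ(B.P, B.piece U (b i)) := fun k => (B.exists_img_eq U (b i) (b k)).choose
  have hs : ∀ k, B.img U (b i) (b k) = s k • B.img U (b i) (b i) := fun k =>
    (B.exists_img_eq U (b i) (b k)).choose_spec
  let str : Γ(X, U.1) →+* Γ(B.P, B.piece U (b i)) :=
    (B.P.presheaf.map (homOfLE (pc_le U (b i))).op).hom.comp (B.p.app U.1).hom
  let κ : MvPolynomial (Var i) Γ(X, U.1) →+* Γ(B.P, B.piece U (b i)) :=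
    MvPolynomial.eval₂Hom str fun k => s k.1
  have hem : Proj.basicOpen (dg B.S U) (ev B.j U (b i)) ≤ em B.p B.chart U ⁻¹ᵁ B.piece U (b i) :=
    fun y hy => ⟨y, hy, rfl⟩
  let ρ : Γ(B.P, B.piece U (b i)) →+* Γ(Proj (dg B.S U), Proj.basicOpen (dg B.S U) (ev B.j U (b i))) :=
    ((em B.p B.chart U).appLE (B.piece U (b i)) _ hem).hom
  let σ := (Proj.awayToSection (dg B.S U) (ev B.j U (b i))).hom
  have hρ : Function.Bijective ρ := by
    have : IsIso ((em B.p B.chart U).appLE (B.piece U (b i)) _ hem) := by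
      show IsIso ((em B.p B.chart U).appLE (em B.p B.chart U ''ᵁ _) _ hem)
      rw [← Scheme.Hom.appIso_hom']; infer_instance
    exact ConcreteCategory.bijective_of_isIso _
  have hσ : Function.Bijective σ :=
    ConcreteCategory.bijective_of_isIso
      (Proj.basicOpenIsoAway (dg B.S U) (ev B.j U (b i)) (B.isSym.2 U.1 U.2 (b i)) one_pos).hom
  have key : ρ.comp κ = σ.comp g.symm.toRingHom := by
    refine MvPolynomial.ringHom_ext (fun r => ?_) fun k => ?_
    · show ρ (κ (MvPolynomial.C r)) = σ (g.symm (MvPolynomial.C r))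
      rw [show g.symm (MvPolynomial.C r) = _ from g.symm_apply_eq.2 (hg0 r).symm]
      exact (congrArg ρ (MvPolynomial.eval₂Hom_C _ _ r)).trans (Bdl.appLE_str (B := B) U (b i) r hem)
    · show ρ (κ (MvPolynomial.X k)) = σ (g.symm (MvPolynomial.X k))
      rw [show g.symm (MvPolynomial.X k) = _ from
        g.symm_apply_eq.2 ((hg1 k.1).trans (dif_neg k.2)).symm]
      exact (congrArg ρ (MvPolynomial.eval₂Hom_X' _ _ k)).trans
        (appLE_rat B.isSym B.isCanon U (b i) (b k.1) (hs k.1) hem)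
  refine ⟨κ, ?_, fun r => MvPolynomial.eval₂Hom_C _ _ r, fun k => ?_⟩
  · have h : Function.Bijective (ρ.comp κ) := key ▸ hσ.comp g.symm.bijective
    exact (Function.Bijective.of_comp_iff' hρ κ).1 h
  · by_cases hk : k = i
    · subst hk
      rw [BlowUpBC12.xv, dif_pos rfl, map_one, one_smul]
    · rw [BlowUpBC12.xv, dif_neg hk, MvPolynomial.eval₂Hom_X']
      exact hs k

end GrothLib.BlowPB8
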